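import Cfsg.Agent.BinaryOneClass.UnitaryMain
import Cfsg.Agent.RankOne.Classify.Glue
import Cfsg.Agent.S5736
import Cfsg.Agent.BinarySuzuki.Main
import Cfsg.Agent.Suzuki.LieModel

/-!
Binary coset actions of simple groups with one class of involutions, stabilisers of even order.
-/

set_option autoImplicit false
set_option linter.style.haveILetI false

namespace CfsgLib.BinaryOneClass

open Cfsg CfsgLib.BinaryPSL

universe u

variable {G : Type u} [Group G] [Finite G]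

theorem ne_bot_of_even {H : Subgroup G} (heven : Even (Nat.card H)) : H ≠ ⊥ := fun h => by
  rw [h, Subgroup.card_bot] at heven
  exact Nat.not_even_one heven

theorem sl_iff {F : Type} [Field F] [Fintype F] {a : ℕ} (ha : 2 ≤ a) (hF : Fintype.card F = 2 ^ a)
    (e : G ≃* Matrix.SpecialLinearGroup (Fin 2) F) (H : Subgroup G) (hH : H ≠ ⊤)
    (heven : Even (Nat.card H)) : IsBinary H ↔ ∃ P : Sylow 2 G, H = P := by
  haveI : Fact (Nat.Prime 2) := ⟨Nat.prime_two⟩
  haveI : CharP F 2 := charP_of_card_eq_prime_pow hF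
  set ψ := e.trans (CfsgLib.CAGroups.mulEquivPslOfSl2 F)
  have hH' : H.map ψ.toMonoidHom ≠ ⊤ := fun h => hH (Subgroup.map_injective (f := ψ.toMonoidHom)
    ψ.injective (by rw [h, Subgroup.map_top_of_surjective _ ψ.surjective]))
  have h4 : 4 ≤ Fintype.card F := hF ▸ le_trans (by norm_num) (Nat.pow_le_pow_right two_pos ha)
  have h5 : Fintype.card F ≠ 5 := fun h => by
    have := (Nat.pow_dvd_pow 2 ha)
    rw [← hF, h] at this
    omega
  rw [← isBinary_map_iff ψ]
  refine (Cfsg.Agent.S5736.result h4 h5 _ hH').trans ?_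
  constructor
  · rintro (h | ⟨-, P, hP⟩ | ⟨-, h⟩)
    · exact absurd ((Subgroup.map_eq_bot_iff_of_injective _ ψ.injective).1 h) (ne_bot_of_even heven)
    · refine ⟨P.mapSurjective (f := ψ.symm.toMonoidHom) ψ.symm.surjective, ?_⟩
      show H = (P : Subgroup _).map ψ.symm.toMonoidHom
      rw [← hP, Subgroup.map_map,
        show ψ.symm.toMonoidHom.comp ψ.toMonoidHom = MonoidHom.id _ from
          MonoidHom.ext ψ.symm_apply_apply, Subgroup.map_id]
    · rw [Subgroup.card_map_of_injective ψ.injective] at h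
      rw [h] at heven
      exact absurd heven (by decide)
  · rintro ⟨P, rfl⟩
    exact Or.inr (Or.inl ⟨⟨a, hF⟩, P.mapSurjective (f := ψ.toMonoidHom) ψ.surjective, rfl⟩)

theorem sz_iff (hG : Cfsg.Lie.IsoSuzuki G) (H : Subgroup G) (hH : H ≠ ⊤)
    (heven : Even (Nat.card H)) : IsBinary H ↔ ∃ P : Sylow 2 G,
      H = (Subgroup.center (P : Subgroup G)).map (P : Subgroup G).subtype := by
  obtain ⟨F, iF, iF', m, hm, hF, ⟨e⟩⟩ := hG
  haveI := CfsgLib.Suzuki.charP_two (m := m) hF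
  rw [CfsgLib.BinarySuzuki.binary_or_centre_of_equiv hm hF
    (e.trans ((CfsgLib.Suzuki.lieSzEquiv hm hF).symm.trans
      (MulEquiv.subgroupCongr CfsgLib.Suzuki.sz_eq))) H hH]
  exact or_iff_right (ne_bot_of_even heven)

theorem psu_iff [IsSimpleGroup G] {F : Type} [Field F] [Fintype F] {a : ℕ} (ha : 2 ≤ a)
    (hF : Fintype.card F = (2 ^ a) ^ 2) (e : G ≃* PSU 3 F (2 ^ a))
    (hone : ∀ s t : G, orderOf s = 2 → orderOf t = 2 → IsConj s t)
    (H : Subgroup G) (hH : H ≠ ⊤) (heven : Even (Nat.card H)) : IsBinary H ↔ ∃ P : Sylow 2 G,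
      H = (Subgroup.center (P : Subgroup G)).map (P : Subgroup G).subtype := by
  have hF' : Fintype.card F = 4 ^ a := by rw [hF, ← pow_mul, mul_comm, pow_mul]; norm_num
  have d := CfsgLib.UnitaryThree.Data.ofCard (by omega) hF'
  refine isBinary_iff_center (d := d)
    (π := e.symm.toMonoidHom.comp (QuotientGroup.mk' _))
    (e.symm.surjective.comp (QuotientGroup.mk'_surjective _)) (fun x y => ?_) ha hone H hH heven
  rw [MonoidHom.comp_apply, MonoidHom.comp_apply, MulEquiv.toMonoidHom_eq_coe, MonoidHom.coe_coe,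
    e.symm.injective.eq_iff, QuotientGroup.mk'_apply, QuotientGroup.mk'_apply, QuotientGroup.eq,
    ← CfsgLib.RankOneClassify.Model.ker_rep d, MonoidHom.mem_ker, map_mul, map_inv, inv_mul_eq_one]

open CfsgLib.RankOneClassify in
/-- The classification, given stage 1 and the rank-one pieces. -/
theorem isBinary_iff (hP : AllPPlus.{u}) (hp : Pieces.{u, u}) [IsSimpleGroup G]
    (hone : ∀ s t : G, orderOf s = 2 → orderOf t = 2 → IsConj s t)
    (H : Subgroup G) (hH : H ≠ ⊤) (heven : Even (Nat.card H)) :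
    IsBinary H ↔
      (((∃ (F : Type) (_ : Field F) (_ : Fintype F) (a : ℕ), 2 ≤ a ∧ Fintype.card F = 2 ^ a ∧ Nonempty (G ≃* Matrix.SpecialLinearGroup (Fin 2) F)) ∧
          ∃ P : Sylow 2 G, H = P) ∨
        (Cfsg.Lie.IsoSuzuki G ∧ ∃ P : Sylow 2 G, H = (Subgroup.center (P : Subgroup G)).map (P : Subgroup G).subtype) ∨
        ((∃ (F : Type) (_ : Field F) (_ : Fintype F) (a : ℕ), 2 ≤ a ∧ Fintype.card F = (2 ^ a) ^ 2 ∧ Nonempty (G ≃* Cfsg.PSU 3 F (2 ^ a))) ∧
          ∃ P : Sylow 2 G, H = (Subgroup.center (P : Subgroup G)).map (P : Subgroup G).subtype)) := by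
  constructor
  · intro hbin
    obtain ⟨M, hM⟩ := exists_stronglyEmbedded hone hbin heven hH
    obtain ⟨h2, hcore⟩ := rankTwo_of_simple hM
    obtain ⟨Q, hQ, -, -⟩ := hP G M hM h2 hcore
    rcases simple_list hp hM hQ with ⟨F, iF, iF', a, ha, hF, ⟨e⟩⟩ | hS |
      ⟨F, iF, iF', a, ha, hF, ⟨e⟩⟩
    · haveI : CharP F 2 := by
        haveI : Fact (Nat.Prime 2) := ⟨Nat.prime_two⟩
        exact charP_of_card_eq_prime_pow hF
      have e' := e.trans (CfsgLib.CAGroups.mulEquivPslOfSl2 F).symm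
      exact Or.inl ⟨⟨F, iF, iF', a, ha, hF, ⟨e'⟩⟩, (sl_iff ha hF e' H hH heven).1 hbin⟩
    · exact Or.inr (Or.inl ⟨hS, (sz_iff hS H hH heven).1 hbin⟩)
    · exact Or.inr (Or.inr ⟨⟨F, iF, iF', a, ha, hF, ⟨e⟩⟩, (psu_iff ha hF e hone H hH heven).1 hbin⟩)
  · rintro (⟨⟨F, iF, iF', a, ha, hF, ⟨e⟩⟩, hP'⟩ | ⟨hS, hP'⟩ | ⟨⟨F, iF, iF', a, ha, hF, ⟨e⟩⟩, hP'⟩)
    · exact (sl_iff ha hF e H hH heven).2 hP'
    · exact (sz_iff hS H hH heven).2 hP'
    · exact (psu_iff ha hF e hone H hH heven).2 hP'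

end CfsgLib.BinaryOneClass
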